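import Mathlib
import Cfsg.Agent.Char.Gen
import Cfsg.Agent.Char.Induced
import Cfsg.Agent.Char.Linear

/-!
# A quadratic inequality for generalized characters of abelian groups

A weight `w` on a finite abelian group `H` is good if `∑ h, w h * ‖φ h‖²` is at least `|H|²` for
every nonzero generalized character `φ`. Goodness passes to subgroups by induction of characters and
to products with a factor on which the weight is `|A| + 1` off the identity.
-/

namespace Cfsg.Agent.KGVAbelian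

open Cfsg.Agent.Char ComplexConjugate

/-- The inequality for all nonzero generalized characters. -/
def Good (H : Type*) [Group H] [Fintype H] (w : H → ℝ) : Prop :=
  ∀ φ : H → ℂ, IsGeneralizedCharacter H φ → φ ≠ 0 →
    (Fintype.card H : ℝ) ^ 2 ≤ ∑ h, w h * ‖φ h‖ ^ 2

theorem good_mono {H : Type*} [Group H] [Fintype H] {w w' : H → ℝ} (hle : ∀ h, w h ≤ w' h)
    (hw : Good H w) : Good H w' := fun φ hφ h0 => (hw φ hφ h0).trans
  (Finset.sum_le_sum fun h _ => mul_le_mul_of_nonneg_right (hle h) (sq_nonneg _))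

theorem good_subsingleton {H : Type*} [Group H] [Fintype H] [Subsingleton H] {w : H → ℝ}
    (hw : 1 ≤ w 1) : Good H w := by
  intro φ hφ h0
  obtain ⟨χ, ξ, hχ, hξ, rfl⟩ := hφ
  obtain ⟨a, ha⟩ := IsChar.degree hχ
  obtain ⟨b, hb⟩ := IsChar.degree hξ
  rw [Fintype.sum_subsingleton _ (1 : H), Fintype.card_eq_one_iff.2 ⟨1, fun x => Subsingleton.elim x 1⟩]
  have hne : ((a : ℤ) - b) ≠ 0 := fun h => h0 (funext fun x => by
    rw [Subsingleton.elim x 1]
    simp only [Pi.sub_apply, ha, hb, Pi.zero_apply]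
    exact_mod_cast h)
  have h1 : (1 : ℝ) ≤ ‖(χ - ξ) 1‖ := by
    rw [Pi.sub_apply, ha, hb, show ((a : ℂ) - b) = (((a : ℤ) - b : ℤ) : ℂ) by push_cast; rfl,
      Complex.norm_intCast]
    exact_mod_cast Int.one_le_abs hne
  calc ((1 : ℕ) : ℝ) ^ 2 = 1 * 1 ^ 2 := by simp
    _ ≤ w 1 * ‖(χ - ξ) 1‖ ^ 2 := by gcongr

/-- Goodness passes to subgroups. -/
theorem good_comap {H T : Type*} [Group H] [Fintype H] [CommGroup T] [Fintype T] (j : H →* T)
    (hj : Function.Injective j) {w : T → ℝ} (hw : Good T w) : Good H (fun h => w (j h)) := by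
  classical
  intro φ hφ h0
  have := Fintype.ofFinite j.range
  let e : H ≃* j.range := MonoidHom.ofInjective hj
  set θ : j.range → ℂ := fun x => φ (e.symm x) with hθ
  have hθg : IsGeneralizedCharacter j.range θ := isGeneralized_comp e.symm.toMonoidHom hφ
  have hψg := isGeneralized_indFun j.range hθg
  have hval : ∀ h, indFun j.range θ (j h) = (j.range.index : ℂ) * φ h := by
    intro h
    rw [show j h = ((e h : j.range) : T) from rfl, indFun_apply_coe_of_normal]
    have h1 : ∀ (x : T) (hx : x⁻¹ * (e h : T) * x ∈ j.range), θ ⟨_, hx⟩ = φ h := fun x _ => by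
      rw [hθ]
      show φ (e.symm _) = φ h
      congr 1
      rw [MulEquiv.symm_apply_eq]
      exact Subtype.ext (by simp [mul_comm x⁻¹])
    rw [Finset.sum_congr rfl fun x _ => h1 x _, Finset.sum_const, Finset.card_univ, nsmul_eq_mul,
      ← Nat.card_eq_fintype_card (α := T), ← j.range.card_mul_index]
    push_cast
    have : (Nat.card j.range : ℂ) ≠ 0 := Nat.cast_ne_zero.2 Nat.card_pos.ne'
    field_simp
  have hψ0 : indFun j.range θ ≠ 0 := fun h => h0 (funext fun x => by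
    have h1 := hval x
    rw [h] at h1
    simpa [Subgroup.index_ne_zero_of_finite] using h1.symm)
  have h2 := hw _ hψg hψ0
  have hsum : ∑ t, w t * ‖indFun j.range θ t‖ ^ 2 =
      (j.range.index : ℝ) ^ 2 * ∑ h, w (j h) * ‖φ h‖ ^ 2 := by
    rw [Finset.mul_sum, ← Finset.sum_subset (Finset.subset_univ (Finset.univ.image j)),
      Finset.sum_image fun a _ b _ h => hj h]
    · refine Finset.sum_congr rfl fun h _ => ?_
      rw [hval, norm_mul, Complex.norm_natCast]
      ring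
    · intro t _ ht
      rw [indFun_apply_of_normal j.range θ (show t ∉ j.range from fun ⟨h, hh⟩ =>
        ht (Finset.mem_image.2 ⟨h, Finset.mem_univ _, hh⟩))]
      simp
  have hcard : (Fintype.card T : ℝ) = (j.range.index : ℝ) * Fintype.card H := by
    rw [← Nat.card_eq_fintype_card, ← Nat.card_eq_fintype_card (α := H), Nat.card_congr e.toEquiv,
      ← j.range.card_mul_index]
    push_cast
    ring
  rw [hsum, hcard, mul_pow] at h2
  refine le_of_mul_le_mul_left h2 (pow_pos ?_ 2)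
  exact_mod_cast Nat.pos_of_ne_zero Subgroup.index_ne_zero_of_finite

/-- The sum of the squared pairwise differences. -/
theorem sum_sum_norm_sub_sq {ι : Type*} [Fintype ι] (c : ι → ℂ) :
    ∑ i, ∑ j, ‖c i - c j‖ ^ 2 =
      2 * ((Fintype.card ι : ℝ) * ∑ i, ‖c i‖ ^ 2 - ‖∑ i, c i‖ ^ 2) := by
  apply Complex.ofReal_injective
  push_cast
  simp only [← Complex.mul_conj', map_sub, map_sum, sub_mul, mul_sub, Finset.sum_sub_distrib,
    Finset.sum_const, Finset.card_univ, nsmul_eq_mul, ← Finset.mul_sum, ← Finset.sum_mul]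
  ring

variable {A B : Type*} [CommGroup A] [Fintype A] [CommGroup B] [Fintype B]

theorem sum_irr_card : Fintype.card (IrrCharacter A) = Fintype.card A := by
  rw [← Nat.card_eq_fintype_card, card_irrCharacter, card_conjClasses_eq_card_iff.2 (fun a b : A => mul_comm a b),
    Nat.card_eq_fintype_card]

/-- The coefficient functions along the first factor. -/
noncomputable def coef (φ : A × B → ℂ) (α : IrrCharacter A) (y : B) : ℂ :=
  classInner (fun a => φ (a, y)) (α : A → ℂ)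

omit [Fintype B] in
theorem apply_eq_sum_coef (φ : A × B → ℂ) (a : A) (y : B) :
    φ (a, y) = ∑ α : IrrCharacter A, coef φ α y * (α : A → ℂ) a := by
  have h := classFun_expansion (f := fun a => φ (a, y)) fun g k => by simp [mul_comm k]
  have h2 := congrFun h a
  simpa [coef] using h2

theorem isGeneralized_coef {φ : A × B → ℂ} (hφ : IsGeneralizedCharacter (A × B) φ)
    (α : IrrCharacter A) : IsGeneralizedCharacter B (coef φ α) := by
  refine isGeneralized_iff.2 ⟨fun g k => by simp [mul_comm k], fun μ => ?_⟩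
  obtain ⟨k, hk⟩ := classInner_generalized_int hφ (isGeneralized_of_isCharacter
    (isCharacter_mul (isCharacter_comp (MonoidHom.fst A B) (IsIrr.isCharacter α.2))
      (isCharacter_comp (MonoidHom.snd A B) (IsIrr.isCharacter μ.2))))
  refine ⟨k, hk ▸ ?_⟩
  simp only [coef, classInner, Fintype.sum_prod_type_right, Nat.card_prod, Pi.mul_apply, map_mul,
    MonoidHom.coe_fst, MonoidHom.coe_snd, Finset.mul_sum, Finset.sum_mul]
  refine Finset.sum_congr rfl fun y _ => Finset.sum_congr rfl fun a _ => ?_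
  push_cast
  rw [mul_inv]
  ring

omit [Fintype B] in
theorem sum_norm_sq_slice (φ : A × B → ℂ) (y : B) :
    ∑ a, ‖φ (a, y)‖ ^ 2 = Fintype.card A * ∑ α, ‖coef φ α y‖ ^ 2 := by
  have h := classInner_eq_sum (f := fun a => φ (a, y)) (f' := fun a => φ (a, y))
    fun g k => by simp [mul_comm k]
  rw [classInner_self_eq] at h
  apply Complex.ofReal_injective
  have h2 : ∀ α : IrrCharacter A, classInner (α : A → ℂ) (fun a => φ (a, y)) =
      conj (coef φ α y) := fun α => (classInner_conj_symm _ _).symm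
  simp only [h2] at h
  have hA : (Nat.card A : ℂ) ≠ 0 := card_ne_zero
  push_cast
  simp only [Nat.card_eq_fintype_card] at h hA
  have h3 : ∑ α, coef φ α y * conj (coef φ α y) = ∑ α, ((‖coef φ α y‖ : ℂ)) ^ 2 :=
    Finset.sum_congr rfl fun α _ => Complex.mul_conj' _
  rw [show (∑ α : IrrCharacter A, classInner (fun a => φ (a, y)) (α : A → ℂ) *
      conj (coef φ α y)) = ∑ α, coef φ α y * conj (coef φ α y) from rfl, h3] at h
  simp only [Complex.normSq_eq_norm_sq] at h
  push_cast at h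
  rw [← h]
  field_simp

omit [Fintype B] in
theorem slice_one (φ : A × B → ℂ) (y : B) : φ (1, y) = ∑ α, coef φ α y := by
  rw [apply_eq_sum_coef φ 1 y]
  exact Finset.sum_congr rfl fun α _ => by rw [forall_degree_one_iff.2 (fun a b : A => mul_comm a b) α, mul_one]

/-- **The product step.** -/
theorem good_prod {g : B → ℝ} (hg : Good B g) (hg0 : ∀ y, 0 ≤ g y) {w : A × B → ℝ}
    (hw1 : ∀ y, g y ≤ w (1, y))
    (hw : ∀ a y, a ≠ 1 → ((Fintype.card A : ℝ) + 1) * g y ≤ w (a, y)) : Good (A × B) w := by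
  classical
  intro φ hφ h0
  set m := (Fintype.card A : ℝ) with hm
  let T : (B → ℂ) → ℝ := fun c => ∑ y, g y * ‖c y‖ ^ 2
  have hT0 : ∀ c, 0 ≤ T c := fun c => Finset.sum_nonneg fun y _ => mul_nonneg (hg0 y) (sq_nonneg _)
  set Z := Finset.univ.filter fun α : IrrCharacter A => coef φ α ≠ 0 with hZ
  have hZ0 : Z.Nonempty := by
    by_contra h
    refine h0 (funext fun z => ?_)
    rw [show z = (z.1, z.2) from rfl, apply_eq_sum_coef φ z.1 z.2]
    refine Finset.sum_eq_zero fun α _ => ?_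
    have h1 : coef φ α = 0 := by
      by_contra hα
      exact h ⟨α, Finset.mem_filter.2 ⟨Finset.mem_univ _, hα⟩⟩
    rw [h1, Pi.zero_apply, zero_mul]
  have hlow : ∀ c : B → ℂ, IsGeneralizedCharacter B c → c ≠ 0 →
      (Fintype.card B : ℝ) ^ 2 ≤ T c := hg
  have h1 : (Z.card : ℝ) * (Fintype.card B : ℝ) ^ 2 ≤ ∑ α, T (coef φ α) := by
    refine le_trans ?_ (Finset.sum_le_sum_of_subset_of_nonneg (Finset.subset_univ Z)
      fun α _ _ => hT0 _)
    rw [← nsmul_eq_mul]
    exact Finset.card_nsmul_le_sum _ _ _ fun α hα =>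
      hlow _ (isGeneralized_coef hφ α) (Finset.mem_filter.1 hα).2
  have h2 : 2 * ((Z.card : ℝ) * Zᶜ.card) * (Fintype.card B : ℝ) ^ 2 ≤
      ∑ α, ∑ β, T (coef φ α - coef φ β) := by
    have hsub : ∀ α β, α ∈ Z → β ∉ Z →
        (Fintype.card B : ℝ) ^ 2 ≤ T (coef φ α - coef φ β) ∧
          (Fintype.card B : ℝ) ^ 2 ≤ T (coef φ β - coef φ α) := by
      intro α β hα hβ
      have hα' := (Finset.mem_filter.1 hα).2
      have hβ' : coef φ β = 0 := by simpa [hZ] using hβ
      constructor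
      · refine hlow _ (isGeneralized_sub (isGeneralized_coef hφ α) (isGeneralized_coef hφ β)) ?_
        rwa [hβ', sub_zero]
      · refine hlow _ (isGeneralized_sub (isGeneralized_coef hφ β) (isGeneralized_coef hφ α)) ?_
        rwa [hβ', zero_sub, neg_ne_zero]
    rw [← Finset.sum_add_sum_compl Z]
    have e1 : (Z.card : ℝ) * Zᶜ.card * (Fintype.card B : ℝ) ^ 2 ≤
        ∑ α ∈ Z, ∑ β, T (coef φ α - coef φ β) := by
      rw [mul_assoc, ← nsmul_eq_mul, ← nsmul_eq_mul]
      refine Finset.card_nsmul_le_sum _ _ _ fun α hα => ?_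
      refine le_trans ?_ (Finset.sum_le_sum_of_subset_of_nonneg (Finset.subset_univ Zᶜ)
        fun β _ _ => hT0 _)
      exact Finset.card_nsmul_le_sum _ _ _ fun β hβ => (hsub α β hα (Finset.mem_compl.1 hβ)).1
    have e2 : (Z.card : ℝ) * Zᶜ.card * (Fintype.card B : ℝ) ^ 2 ≤
        ∑ α ∈ Zᶜ, ∑ β, T (coef φ α - coef φ β) := by
      rw [mul_comm (Z.card : ℝ), mul_assoc, ← nsmul_eq_mul, ← nsmul_eq_mul]
      refine Finset.card_nsmul_le_sum _ _ _ fun α hα => ?_
      refine le_trans ?_ (Finset.sum_le_sum_of_subset_of_nonneg (Finset.subset_univ Z)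
        fun β _ _ => hT0 _)
      exact Finset.card_nsmul_le_sum _ _ _ fun β hβ => (hsub β α hβ (Finset.mem_compl.1 hα)).2
    linarith
  have hs : (1 : ℝ) ≤ Z.card := by exact_mod_cast hZ0.card_pos
  have hsum : (Z.card : ℝ) + Zᶜ.card = m := by
    rw [hm, ← sum_irr_card (A := A)]
    exact_mod_cast Z.card_add_card_compl
  have key : ∀ y, m * (g y * (∑ α, ‖coef φ α y‖ ^ 2)) +
      m / 2 * (g y * ∑ α, ∑ β, ‖coef φ α y - coef φ β y‖ ^ 2) ≤
        ∑ a, w (a, y) * ‖φ (a, y)‖ ^ 2 := by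
    intro y
    have h3 : g y * ((m + 1) * ∑ a, ‖φ (a, y)‖ ^ 2 - m * ‖φ (1, y)‖ ^ 2) ≤
        ∑ a, w (a, y) * ‖φ (a, y)‖ ^ 2 := by
      rw [← Finset.add_sum_erase _ _ (Finset.mem_univ (1 : A)),
        ← Finset.add_sum_erase _ _ (Finset.mem_univ (1 : A))]
      have h4 : (m + 1) * g y * ∑ a ∈ Finset.univ.erase 1, ‖φ (a, y)‖ ^ 2 ≤
          ∑ a ∈ Finset.univ.erase 1, w (a, y) * ‖φ (a, y)‖ ^ 2 := by
        rw [Finset.mul_sum]
        exact Finset.sum_le_sum fun a ha =>
          mul_le_mul_of_nonneg_right (hw a y (Finset.ne_of_mem_erase ha)) (sq_nonneg _)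
      nlinarith [mul_le_mul_of_nonneg_right (hw1 y) (sq_nonneg ‖φ (1, y)‖)]
    refine le_trans (le_of_eq ?_) h3
    rw [sum_sum_norm_sub_sq, sum_irr_card, sum_norm_sq_slice φ y, slice_one φ y]
    ring
  have h5 : m * ∑ α, T (coef φ α) + m / 2 * ∑ α, ∑ β, T (coef φ α - coef φ β) ≤
      ∑ z, w z * ‖φ z‖ ^ 2 := by
    rw [Fintype.sum_prod_type_right]
    refine le_trans (le_of_eq ?_) (Finset.sum_le_sum fun y _ => key y)
    simp only [T, Finset.sum_add_distrib, Finset.mul_sum, Pi.sub_apply]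
    congr 1
    · exact Finset.sum_comm
    · rw [Finset.sum_congr rfl fun α _ => Finset.sum_comm, Finset.sum_comm]
  rw [Fintype.card_prod]
  push_cast
  rw [mul_pow, ← hm]
  have hm0 : 0 ≤ m := Nat.cast_nonneg _
  have hBq : 0 ≤ (Fintype.card B : ℝ) ^ 2 := sq_nonneg _
  have hc0 : (0 : ℝ) ≤ (Zᶜ.card : ℝ) := Nat.cast_nonneg _
  have h7 := mul_nonneg (mul_nonneg hm0 hBq) (mul_nonneg (sub_nonneg.2 hs) hc0)
  have h8 : m ^ 2 * (Fintype.card B : ℝ) ^ 2 =
      m * (((Z.card : ℝ) + Zᶜ.card) * (Fintype.card B : ℝ) ^ 2) := by rw [hsum]; ring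
  nlinarith [mul_le_mul_of_nonneg_left h1 hm0, mul_le_mul_of_nonneg_left h2 hm0]

open scoped Classical in
/-- **The last step**: the sum over the non-identity part of the first factor. -/
theorem sum_off_one_ge {g : B → ℝ} (hg : Good B g) (hg0 : ∀ y, 0 ≤ g y) {φ : A × B → ℂ}
    (hφ : IsGeneralizedCharacter (A × B) φ) (hne : ∃ a y, a ≠ (1 : A) ∧ φ (a, y) ≠ 0) :
    ((Fintype.card A : ℝ) - 1) * (Fintype.card B : ℝ) ^ 2 ≤
      ∑ y, ∑ a, if a = 1 then 0 else g y * ‖φ (a, y)‖ ^ 2 := by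
  classical
  set m := (Fintype.card A : ℝ) with hm
  let T : (B → ℂ) → ℝ := fun c => ∑ y, g y * ‖c y‖ ^ 2
  have hT0 : ∀ c, 0 ≤ T c := fun c => Finset.sum_nonneg fun y _ => mul_nonneg (hg0 y) (sq_nonneg _)
  obtain ⟨α₀⟩ : Nonempty (IrrCharacter A) := Fintype.card_pos_iff.1
    (sum_irr_card (A := A) ▸ Fintype.card_pos)
  set Z := Finset.univ.filter fun α : IrrCharacter A => coef φ α = coef φ α₀ with hZ
  have hZc : Zᶜ.Nonempty := by
    by_contra h
    obtain ⟨a, y, ha, hay⟩ := hne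
    apply hay
    have hall : ∀ α, coef φ α = coef φ α₀ := fun α => by
      by_contra hα
      exact h ⟨α, by simp [hZ, hα]⟩
    rw [apply_eq_sum_coef φ a y]
    simp only [hall, ← Finset.mul_sum]
    have h2 := regular_eq_sum (G := A) a
    simp only [forall_degree_one_iff.2 (fun a b : A => mul_comm a b), one_mul] at h2
    rw [h2, if_neg ha, mul_zero]
  have hα₀ : α₀ ∈ Z := by simp [hZ]
  have hsub : ∀ α β, α ∈ Z → β ∉ Z →
      (Fintype.card B : ℝ) ^ 2 ≤ T (coef φ α - coef φ β) ∧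
        (Fintype.card B : ℝ) ^ 2 ≤ T (coef φ β - coef φ α) := by
    intro α β hα hβ
    have hα' : coef φ α = coef φ α₀ := by simpa [hZ] using hα
    have hβ' : coef φ β ≠ coef φ α₀ := by simpa [hZ] using hβ
    constructor
    · exact hg _ (isGeneralized_sub (isGeneralized_coef hφ α) (isGeneralized_coef hφ β))
        (sub_ne_zero.2 (hα' ▸ hβ'.symm))
    · exact hg _ (isGeneralized_sub (isGeneralized_coef hφ β) (isGeneralized_coef hφ α))
        (sub_ne_zero.2 (hα' ▸ hβ'))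
  have h2 : 2 * ((Z.card : ℝ) * Zᶜ.card) * (Fintype.card B : ℝ) ^ 2 ≤
      ∑ α, ∑ β, T (coef φ α - coef φ β) := by
    rw [← Finset.sum_add_sum_compl Z]
    have e1 : (Z.card : ℝ) * Zᶜ.card * (Fintype.card B : ℝ) ^ 2 ≤
        ∑ α ∈ Z, ∑ β, T (coef φ α - coef φ β) := by
      rw [mul_assoc, ← nsmul_eq_mul, ← nsmul_eq_mul]
      refine Finset.card_nsmul_le_sum _ _ _ fun α hα => ?_
      refine le_trans ?_ (Finset.sum_le_sum_of_subset_of_nonneg (Finset.subset_univ Zᶜ)
        fun β _ _ => hT0 _)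
      exact Finset.card_nsmul_le_sum _ _ _ fun β hβ => (hsub α β hα (Finset.mem_compl.1 hβ)).1
    have e2 : (Z.card : ℝ) * Zᶜ.card * (Fintype.card B : ℝ) ^ 2 ≤
        ∑ α ∈ Zᶜ, ∑ β, T (coef φ α - coef φ β) := by
      rw [mul_comm (Z.card : ℝ), mul_assoc, ← nsmul_eq_mul, ← nsmul_eq_mul]
      refine Finset.card_nsmul_le_sum _ _ _ fun α hα => ?_
      refine le_trans ?_ (Finset.sum_le_sum_of_subset_of_nonneg (Finset.subset_univ Z)
        fun β _ _ => hT0 _)
      exact Finset.card_nsmul_le_sum _ _ _ fun β hβ => (hsub β α hβ (Finset.mem_compl.1 hα)).2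
    linarith
  have hs : (1 : ℝ) ≤ Z.card := by exact_mod_cast Finset.card_pos.2 ⟨α₀, hα₀⟩
  have hc : (1 : ℝ) ≤ Zᶜ.card := by exact_mod_cast hZc.card_pos
  have hsum : (Z.card : ℝ) + Zᶜ.card = m := by
    rw [hm, ← sum_irr_card (A := A)]
    exact_mod_cast Z.card_add_card_compl
  have key : ∀ y, ∑ a, (if a = 1 then 0 else g y * ‖φ (a, y)‖ ^ 2) =
      (1 / 2) * (g y * ∑ α, ∑ β, ‖coef φ α y - coef φ β y‖ ^ 2) := by
    intro y
    have h1 : ∑ a, (if a = 1 then 0 else g y * ‖φ (a, y)‖ ^ 2) =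
        ∑ a, g y * ‖φ (a, y)‖ ^ 2 - g y * ‖φ (1, y)‖ ^ 2 := by
      rw [← Finset.add_sum_erase _ _ (Finset.mem_univ (1 : A)),
        ← Finset.add_sum_erase _ _ (Finset.mem_univ (1 : A)), if_pos rfl, zero_add,
        add_sub_cancel_left]
      exact Finset.sum_congr rfl fun a ha => if_neg (Finset.ne_of_mem_erase ha)
    rw [h1, ← Finset.mul_sum, sum_sum_norm_sub_sq, sum_irr_card, sum_norm_sq_slice φ y,
      slice_one φ y]
    ring
  rw [Finset.sum_congr rfl fun y _ => key y]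
  have h5 : ∑ y, (1 / 2 : ℝ) * (g y * ∑ α, ∑ β, ‖coef φ α y - coef φ β y‖ ^ 2) =
      (1 / 2) * ∑ α, ∑ β, T (coef φ α - coef φ β) := by
    simp only [T, Finset.mul_sum, Pi.sub_apply]
    rw [Finset.sum_comm]
    exact Finset.sum_congr rfl fun α _ => Finset.sum_comm
  rw [h5]
  have hBq : 0 ≤ (Fintype.card B : ℝ) ^ 2 := sq_nonneg _
  have h8 : (m - 1) * (Fintype.card B : ℝ) ^ 2 =
      ((Z.card : ℝ) + Zᶜ.card - 1) * (Fintype.card B : ℝ) ^ 2 := by rw [hsum]
  nlinarith [mul_nonneg hBq (mul_nonneg (sub_nonneg.2 hs) (sub_nonneg.2 hc))]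

end Cfsg.Agent.KGVAbelian
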