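import Mathlib
import Cfsg.Agent.KGVAbelian.Form

/-!
# The weight `|V : C_V(h)|` of a faithful coprime abelian action is good
-/

namespace Cfsg.Agent.KGVAbelian

open Module

universe u v

variable {p : ℕ} [hp : Fact p.Prime]

/-- The number of fixed points. -/
noncomputable def fixNum {V : Type*} [AddCommGroup V] [Module (ZMod p) V]
    (f : Module.End (ZMod p) V) : ℕ :=
  Nat.card {v : V // f v = v}

theorem fixNum_pos {V : Type*} [AddCommGroup V] [Module (ZMod p) V] [Finite V]
    (f : Module.End (ZMod p) V) : 0 < fixNum f :=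
  have : Nonempty {v : V // f v = v} := ⟨⟨0, map_zero f⟩⟩
  Nat.card_pos

/-- The fixed points are at most those of a submodule times those of the quotient. -/
theorem fixNum_le {V : Type*} [AddCommGroup V] [Module (ZMod p) V] [Finite V]
    (f : Module.End (ZMod p) V) (W : Submodule (ZMod p) V) (hW : W ≤ W.comap f) :
    fixNum f ≤ fixNum (f.restrict hW) * fixNum (W.mapQ W f hW) := by
  classical
  have : Finite W := Finite.of_injective (fun w : W => (w : V)) Subtype.val_injective
  have : Finite (V ⧸ W) := Finite.of_surjective _ (Submodule.Quotient.mk_surjective W)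
  rw [fixNum, fixNum, fixNum, ← Nat.card_prod]
  let q : {v : V // f v = v} → {z : V ⧸ W // W.mapQ W f hW z = z} := fun v =>
    ⟨Submodule.Quotient.mk v.1, by rw [Submodule.mapQ_apply, v.2]⟩
  let s : {z : V ⧸ W // W.mapQ W f hW z = z} → V := fun z =>
    if h : ∃ v : {v : V // f v = v}, q v = z then h.choose.1 else 0
  have hsW : ∀ v, v.1 - s (q v) ∈ W ∧ f (v.1 - s (q v)) = v.1 - s (q v) := by
    intro v
    have h : ∃ v', q v' = q v := ⟨v, rfl⟩
    have h1 : s (q v) = h.choose.1 := dif_pos h
    rw [h1]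
    have h2 := congrArg Subtype.val h.choose_spec
    exact ⟨(Submodule.Quotient.eq W).1 h2.symm, by rw [map_sub, v.2, h.choose.2]⟩
  refine Nat.card_le_card_of_injective
    (fun v => (⟨⟨v.1 - s (q v), (hsW v).1⟩, Subtype.ext (hsW v).2⟩, q v)) fun v w e => ?_
  obtain ⟨e1, e2⟩ := Prod.ext_iff.1 e
  have e1' : v.1 - s (q v) = w.1 - s (q w) :=
    congrArg (fun z => ((z.1 : W) : V)) e1
  have e2' : q v = q w := e2
  rw [e2'] at e1'
  exact Subtype.ext (sub_left_injective e1')

/-- An element of order prime to `p` stabilising a flag of length two is trivial. -/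
theorem eq_one_of_flag {V : Type*} [AddCommGroup V] [Module (ZMod p) V]
    (f : Module.End (ZMod p) V) (k : ℕ) (hk : ¬ p ∣ k) (hfk : f ^ k = 1)
    (W : Submodule (ZMod p) V) (h1 : ∀ w ∈ W, f w = w) (h2 : ∀ v, f v - v ∈ W) : f = 1 := by
  refine LinearMap.ext fun v => ?_
  set d := f v - v
  have hpow : ∀ j : ℕ, (f ^ j) v = v + (j : ZMod p) • d := by
    intro j
    induction j with
    | zero => simp
    | succ j ih =>
      rw [pow_succ', Module.End.mul_apply, ih, map_add, map_smul, h1 d (h2 v),
        show f v = v + d by simp [d]]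
      push_cast
      rw [add_smul, one_smul]
      abel
  have h3 := hpow k
  rw [hfk, Module.End.one_apply, left_eq_add, smul_eq_zero] at h3
  have h4 : d = 0 := h3.resolve_left fun h => hk ((ZMod.natCast_eq_zero_iff _ _).1 h)
  simpa [d, sub_eq_zero] using h4

theorem good_action : ∀ (n : ℕ) (H : Type u) [CommGroup H] [Fintype H] (V : Type v) [AddCommGroup V]
    [Module (ZMod p) V] [Finite V] (ρ : H →* Module.End (ZMod p) V), Nat.card V = n →
    Function.Injective ρ → ¬ p ∣ Fintype.card H →
    Good H (fun h => (Nat.card V : ℝ) / fixNum (ρ h)) := by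
  intro n
  induction n using Nat.strong_induction_on with
  | _ n ih =>
  intro H _ _ V _ _ _ ρ hn hinj hpH
  classical
  rcases subsingleton_or_nontrivial V with hV | hV
  · have : Subsingleton H := ⟨fun a b => hinj (LinearMap.ext fun v => Subsingleton.elim _ _)⟩
    refine good_subsingleton ?_
    rw [one_le_div (by exact_mod_cast fixNum_pos _)]
    exact_mod_cast Nat.card_le_card_of_injective _ Subtype.val_injective
  -- a minimal invariant subspace
  have hfinQ : ∀ W : Submodule (ZMod p) V, Finite (V ⧸ W) := fun W =>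
    Finite.of_surjective _ (Submodule.Quotient.mk_surjective W)
  have hex : ∃ d, ∃ W : Submodule (ZMod p) V, W ≠ ⊥ ∧ (∀ h, W ≤ W.comap (ρ h)) ∧
      Nat.card W = d := ⟨_, ⊤, top_ne_bot, fun h => le_top.trans (by simp), rfl⟩
  obtain ⟨W, hW0, hWinv, hWd⟩ := Nat.find_spec hex
  have hmin : ∀ U : Submodule (ZMod p) V, U ≤ W → (∀ h, U ≤ U.comap (ρ h)) → U = ⊥ ∨ U = W := by
    intro U hUW hU
    by_contra hne
    push Not at hne
    have h1 := Nat.find_le (h := hex) ⟨U, hne.1, hU, rfl⟩
    have h2 : Nat.card U < Nat.card W :=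
      Set.Finite.card_lt_card (Set.toFinite (W : Set V))
        (SetLike.coe_ssubset_coe.2 (lt_of_le_of_ne hUW hne.2))
    omega
  let ρW : H →* Module.End (ZMod p) W :=
    { toFun := fun h => (ρ h).restrict (hWinv h)
      map_one' := LinearMap.ext fun w => Subtype.ext (by simp)
      map_mul' := fun a b => LinearMap.ext fun w => Subtype.ext (by simp) }
  let ρQ : H →* Module.End (ZMod p) (V ⧸ W) :=
    { toFun := fun h => W.mapQ W (ρ h) (hWinv h)
      map_one' := Submodule.linearMap_qext _ (LinearMap.ext fun v => by simp)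
      map_mul' := fun a b => Submodule.linearMap_qext _ (LinearMap.ext fun v => by simp) }
  let fA := QuotientGroup.mk' ρW.ker
  let fB := QuotientGroup.mk' ρQ.ker
  have hjinj : Function.Injective (fA.prod fB) := by
    rw [injective_iff_map_eq_one]
    intro h hh
    obtain ⟨hA, hB⟩ := Prod.ext_iff.1 hh
    replace hA : ρW h = 1 := (QuotientGroup.eq_one_iff h).1 hA
    replace hB : ρQ h = 1 := (QuotientGroup.eq_one_iff h).1 hB
    refine hinj ((eq_one_of_flag (ρ h) (orderOf h) ?_ (by rw [← map_pow, pow_orderOf_eq_one, map_one])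
      W (fun w hw => ?_) fun v => ?_).trans (map_one ρ).symm)
    · exact fun hd => hpH (hd.trans orderOf_dvd_card)
    · exact congrArg Subtype.val (LinearMap.congr_fun hA ⟨w, hw⟩)
    · exact (Submodule.Quotient.eq W).1 (LinearMap.congr_fun hB (Submodule.Quotient.mk v))
  -- the group induced on the quotient
  have hcardW : 1 < Nat.card W :=
    Finite.one_lt_card_iff_nontrivial.2 (Submodule.nontrivial_iff_ne_bot.2 hW0)
  have hcardV : Nat.card V = Nat.card W * Nat.card (V ⧸ W) :=
    W.card_eq_card_quotient_mul_card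
  have hcardQ : 0 < Nat.card (V ⧸ W) := Nat.card_pos
  let ρB : H ⧸ ρQ.ker →* Module.End (ZMod p) (V ⧸ W) := QuotientGroup.lift ρQ.ker ρQ le_rfl
  have hρB : Function.Injective ρB := by
    rw [injective_iff_map_eq_one]
    intro b hb
    induction b using QuotientGroup.induction_on with
    | H h => exact (QuotientGroup.eq_one_iff h).2 hb
  let fK' : Fintype (H ⧸ ρQ.ker) := Fintype.ofFinite _
  let fK : Fintype (H ⧸ ρW.ker) := Fintype.ofFinite _
  have hgB := ih (Nat.card (V ⧸ W)) (by
    rw [← hn, hcardV]; exact lt_mul_left hcardQ hcardW) (H ⧸ ρQ.ker) (V ⧸ W) ρB rfl hρB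
    fun hd => hpH (hd.trans (by
      rw [← Nat.card_eq_fintype_card, ← Nat.card_eq_fintype_card]
      exact Subgroup.card_quotient_dvd_card ρQ.ker))
  -- semiregularity on the minimal subspace
  have hfree : ∀ h, h ∉ ρW.ker → ∀ w : W, ρW h w = w → w = 0 := by
    intro h hh w hw
    let U : Submodule (ZMod p) V := W ⊓ LinearMap.eqLocus (ρ h) LinearMap.id
    have hU : ∀ g, U ≤ U.comap (ρ g) := fun g v hv => by
      refine ⟨hWinv g hv.1, ?_⟩
      show ρ h (ρ g v) = ρ g v
      rw [← Module.End.mul_apply, ← map_mul, mul_comm, map_mul, Module.End.mul_apply,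
        show ρ h v = v from hv.2]
    rcases hmin U inf_le_left hU with h0 | h0
    · have h1 : (w : V) ∈ U := ⟨w.2, congrArg Subtype.val hw⟩
      rw [h0, Submodule.mem_bot] at h1
      exact Subtype.ext h1
    · exfalso
      apply hh
      refine LinearMap.ext fun z => Subtype.ext ?_
      have h1 : (z : V) ∈ U := h0.symm ▸ z.2
      exact h1.2
  have hAW : Fintype.card (H ⧸ ρW.ker) + 1 ≤ Nat.card W := by
    have : Nontrivial W := Submodule.nontrivial_iff_ne_bot.2 hW0
    obtain ⟨w₀, hw₀⟩ := exists_ne (0 : W)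
    let act : H ⧸ ρW.ker → W := fun a => QuotientGroup.lift ρW.ker ρW le_rfl a w₀
    rw [← Nat.card_eq_fintype_card, ← Finite.card_option]
    refine Nat.card_le_card_of_injective (fun o : Option (H ⧸ ρW.ker) => o.elim 0 act) ?_
    have hne : ∀ a, act a ≠ 0 := by
      intro a ha
      induction a using QuotientGroup.induction_on with
      | H h =>
        apply hw₀
        have h1 : ρW h⁻¹ (ρW h w₀) = w₀ := by
          rw [← Module.End.mul_apply, ← map_mul, inv_mul_cancel, map_one, Module.End.one_apply]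
        rw [← h1, show ρW h w₀ = 0 from ha, map_zero]
    rintro (_ | a) (_ | b) e
    · rfl
    · exact absurd e.symm (hne b)
    · exact absurd e (hne a)
    · induction a using QuotientGroup.induction_on with
      | H h =>
        induction b using QuotientGroup.induction_on with
        | H h' =>
          have e' : ρW h w₀ = ρW h' w₀ := e
          congr 1
          rw [QuotientGroup.eq]
          by_contra hh
          refine hw₀ (hfree _ hh w₀ ?_)
          rw [map_mul, Module.End.mul_apply, ← e', ← Module.End.mul_apply, ← map_mul,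
            inv_mul_cancel, map_one, Module.End.one_apply]
  -- the product
  let gB : H ⧸ ρQ.ker → ℝ := fun b => (Nat.card (V ⧸ W) : ℝ) / fixNum (ρB b)
  have hprod : Good ((H ⧸ ρW.ker) × (H ⧸ ρQ.ker))
      (fun z => (if z.1 = 1 then 1 else (Fintype.card (H ⧸ ρW.ker) : ℝ) + 1) * gB z.2) :=
    good_prod hgB (fun y => by positivity) (fun y => by simp [gB])
      fun a y ha => by simp [ha, gB]
  refine good_mono (fun h => ?_) (good_comap (fA.prod fB) hjinj hprod)
  show (if fA h = 1 then (1 : ℝ) else _) * ((Nat.card (V ⧸ W) : ℝ) / fixNum (ρB (fB h))) ≤ _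
  have hle := fixNum_le (ρ h) W (hWinv h)
  have hBh : ρB (fB h) = W.mapQ W (ρ h) (hWinv h) := rfl
  rw [hBh]
  have hA : (if fA h = 1 then (1 : ℝ) else (Fintype.card (H ⧸ ρW.ker) : ℝ) + 1) *
      fixNum ((ρ h).restrict (hWinv h)) ≤ Nat.card W := by
    split_ifs with hh
    · rw [one_mul]
      exact_mod_cast Nat.card_le_card_of_injective _ Subtype.val_injective
    · have hh' : h ∉ ρW.ker := fun hK => hh ((QuotientGroup.eq_one_iff h).2 hK)
      have h1 : fixNum ((ρ h).restrict (hWinv h)) = 1 := by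
        rw [fixNum, Nat.card_eq_one_iff_unique]
        exact ⟨⟨fun a b => Subtype.ext ((hfree h hh' a.1 a.2).trans (hfree h hh' b.1 b.2).symm)⟩,
          ⟨⟨0, map_zero _⟩⟩⟩
      rw [h1, Nat.cast_one, mul_one]
      exact_mod_cast hAW
  have hfQ : (0 : ℝ) < fixNum (W.mapQ W (ρ h) (hWinv h)) := by exact_mod_cast fixNum_pos _
  have hf : (0 : ℝ) < fixNum (ρ h) := by exact_mod_cast fixNum_pos _
  rw [← mul_div_assoc, div_le_div_iff₀ hfQ hf, hcardV]
  push_cast
  have hle' : (fixNum (ρ h) : ℝ) ≤
      (fixNum ((ρ h).restrict (hWinv h)) : ℝ) * fixNum (W.mapQ W (ρ h) (hWinv h)) := by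
    exact_mod_cast hle
  have hc0 : (0 : ℝ) ≤ if fA h = 1 then (1 : ℝ) else (Fintype.card (H ⧸ ρW.ker) : ℝ) + 1 := by
    split_ifs <;> positivity
  calc _ ≤ (if fA h = 1 then (1 : ℝ) else (Fintype.card (H ⧸ ρW.ker) : ℝ) + 1) * (Nat.card (V ⧸ W)) *
        ((fixNum ((ρ h).restrict (hWinv h)) : ℝ) * fixNum (W.mapQ W (ρ h) (hWinv h))) :=
        mul_le_mul_of_nonneg_left hle' (by positivity)
    _ = ((if fA h = 1 then (1 : ℝ) else (Fintype.card (H ⧸ ρW.ker) : ℝ) + 1) *
          fixNum ((ρ h).restrict (hWinv h))) *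
        ((Nat.card (V ⧸ W) : ℝ) * fixNum (W.mapQ W (ρ h) (hWinv h))) := by ring
    _ ≤ (Nat.card W : ℝ) * ((Nat.card (V ⧸ W) : ℝ) * fixNum (W.mapQ W (ρ h) (hWinv h))) :=
        mul_le_mul_of_nonneg_right hA (by positivity)
    _ = _ := by ring

end Cfsg.Agent.KGVAbelian
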