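import Mathlib
import Cfsg.Agent.KGVAbelian.Action
import Cfsg.Agent.Char.Ortho
import Cfsg.Agent.S0169

/-!
# Knörr: an abelian point stabiliser gives `k(GV) ≤ |V|`

Column orthogonality on the elements `v ^ a * h` and the quadratic inequality.
-/

namespace Cfsg.Agent.KGVAbelian

open Cfsg.Agent.Char ComplexConjugate Subgroup

variable {X : Type*} [Group X] [Finite X] {p : ℕ} [hp : Fact p.Prime]

/-- Powers of an element of exponent `p`, as a homomorphism. -/
def powHom (v : X) (hvp : v ^ p = 1) : Multiplicative (ZMod p) →* X where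
  toFun a := v ^ a.toAdd.val
  map_one' := by simp
  map_mul' a b := by
    rw [← pow_add, toAdd_mul, ZMod.val_add]
    conv_rhs => rw [← Nat.mod_add_div (a.toAdd.val + b.toAdd.val) p, pow_add, pow_mul, hvp,
      one_pow, mul_one]

theorem card_conjClasses_le (V : Subgroup X) [V.Normal] (hVexp : ∀ v ∈ V, v ^ p = 1)
    (hidx : ¬ p ∣ V.index) (hself : centralizer (V : Set X) = V) (G : Subgroup X)
    (hGV : IsComplement' V G) (v : X) (hv : v ∈ V)
    (hab : ∀ a ∈ G ⊓ centralizer ({v} : Set X), ∀ b ∈ G ⊓ centralizer ({v} : Set X),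
      a * b = b * a) :
    Nat.card (ConjClasses X) ≤ Nat.card V := by
  classical
  have := Fintype.ofFinite X
  set H : Subgroup X := G ⊓ centralizer ({v} : Set X) with hH
  letI iH : CommGroup H :=
    { (inferInstance : Group H) with mul_comm := fun a b => Subtype.ext (hab a a.2 b b.2) }
  letI fH : Fintype H := Fintype.ofFinite H
  have hVc : ∀ a ∈ V, ∀ b ∈ V, a * b = b * a := fun a ha b hb => by
    rw [← hself] at hb
    exact (mem_centralizer_iff.1 hb a ha)
  letI iV : CommGroup V :=
    { (inferInstance : Group V) with mul_comm := fun a b => Subtype.ext (hVc a a.2 b b.2) }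
  have hn0 : ∀ x : Additive V, p • x = 0 := fun x => Additive.toMul.injective
    (Subtype.ext ((SubmonoidClass.coe_pow (Additive.toMul x) p).trans
      (hVexp _ (Additive.toMul x).2)))
  letI := AddCommGroup.zmodModule (n := p) hn0
  have : Finite (Additive V) := Finite.of_equiv V Additive.ofMul
  have hcG : Nat.card G = V.index := hGV.symm.index_eq_card.symm
  have hpH : ¬ p ∣ Fintype.card H := fun hd => hidx (by
    rw [← hcG]
    exact (Nat.card_eq_fintype_card (α := H) ▸ hd).trans (card_dvd_of_le inf_le_left))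
  -- the action
  let act : H → Additive V →+ Additive V := fun h => (MulAut.conjNormal (h : X)).toMonoidHom.toAdditive
  let ρ : H →* Module.End (ZMod p) (Additive V) :=
    { toFun := fun h => AddMonoidHom.toZModLinearMap p (act h)
      map_one' := LinearMap.ext fun x => by
        apply Additive.toMul.injective
        show MulAut.conjNormal ((1 : H) : X) (Additive.toMul x : V) = Additive.toMul x
        simp
      map_mul' := fun a b => LinearMap.ext fun x => by
        apply Additive.toMul.injective
        show MulAut.conjNormal ((a * b : H) : X) (Additive.toMul x : V) =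
          MulAut.conjNormal (a : X) (MulAut.conjNormal (b : X) (Additive.toMul x : V))
        rw [Subgroup.coe_mul, map_mul]
        rfl }
  have hρ : ∀ (h : H) (w : V), ((Additive.toMul (ρ h (Additive.ofMul w)) : V) : X) =
      h * w * (h : X)⁻¹ := fun h w => MulAut.conjNormal_apply (h : X) w
  have hinj : Function.Injective ρ := by
    rw [injective_iff_map_eq_one]
    intro h hh
    have h1 : (h : X) ∈ centralizer (V : Set X) := mem_centralizer_iff.2 fun w hw => by
      have h2 := hρ h ⟨w, hw⟩
      rw [hh] at h2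
      exact (mul_inv_eq_iff_eq_mul.1 h2.symm).symm
    rw [hself] at h1
    have h3 : (h : X) ∈ V ⊓ G := ⟨h1, h.2.1⟩
    rw [hGV.disjoint.eq_bot, mem_bot] at h3
    exact Subtype.ext h3
  have hgood := good_action (p := p) _ H (Additive V) ρ rfl hinj hpH
  set w : H → ℝ := fun h => (Nat.card (Additive V) : ℝ) / fixNum (ρ h) with hw
  have hw0 : ∀ h, 0 ≤ w h := fun h => by positivity
  have hfix : ∀ h : H, fixNum (ρ h) = Nat.card ↥(V ⊓ centralizer ({(h : X)} : Set X)) := by
    intro h
    refine Nat.card_congr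
      { toFun := fun x => ⟨((Additive.toMul x.1 : V) : X), (Additive.toMul x.1 : V).2, ?_⟩
        invFun := fun x => ⟨Additive.ofMul ⟨x.1, x.2.1⟩, Additive.toMul.injective (Subtype.ext ?_)⟩
        left_inv := fun x => rfl
        right_inv := fun x => rfl }
    · show ((Additive.toMul x.1 : V) : X) ∈ centralizer ({(h : X)} : Set X)
      rw [mem_centralizer_singleton_iff]
      have h2 := hρ h (Additive.toMul x.1)
      rw [ofMul_toMul, x.2] at h2
      exact (mul_inv_eq_iff_eq_mul.1 h2.symm).symm
    · rw [hρ h ⟨x.1, x.2.1⟩]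
      exact mul_inv_eq_iff_eq_mul.2 (mem_centralizer_singleton_iff.1 x.2.2).symm
  -- the homomorphism
  have hvH : ∀ h : H, Commute v (h : X) := fun h =>
    (mem_centralizer_singleton_iff.1 h.2.2).symm
  let π : Multiplicative (ZMod p) × H →* X :=
    (powHom v (hVexp v hv)).noncommCoprod H.subtype fun a h => (hvH h).pow_left _
  have hπ : ∀ a h, π (a, h) = v ^ (Multiplicative.toAdd a).val * (h : X) := fun a h => rfl
  -- centralisers
  have hC : ∀ (a : Multiplicative (ZMod p)) (h : H), a ≠ 1 →
      Nat.card (centralizer ({π (a, h)} : Set X)) = fixNum (ρ h) * Fintype.card H := by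
    intro a h ha
    set z := π (a, h) with hz
    rw [hfix, ← Nat.card_eq_fintype_card, ← Nat.card_prod]
    have hzp : z ^ p = (h : X) ^ p := by
      rw [hz, hπ, ((hvH h).pow_left _).mul_pow, ← pow_mul, mul_comm, pow_mul, hVexp v hv, one_pow,
        one_mul]
    obtain ⟨m, hm⟩ := exists_pow_eq_self_of_coprime (x := (h : X)) (n := p)
      (hp.out.coprime_iff_not_dvd.2 fun hd => hpH (hd.trans (by
        rw [Subgroup.orderOf_coe]; exact orderOf_dvd_card)))
    have hcomm : ∀ x : X, Commute x z → Commute x (h : X) ∧ Commute x v := by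
      intro x hx
      have h1 : Commute x (h : X) := by
        have h2 : Commute x ((h : X) ^ p) := hzp ▸ hx.pow_right p
        exact hm ▸ h2.pow_right m
      refine ⟨h1, ?_⟩
      have h3 : Commute x (v ^ (Multiplicative.toAdd a).val) := by
        have := hx.mul_right h1.inv_right
        rwa [hz, hπ, mul_inv_cancel_right] at this
      have ha0 : Multiplicative.toAdd a ≠ 0 := fun e => ha (Multiplicative.toAdd.injective e)
      have h4 : v = (v ^ (Multiplicative.toAdd a).val) ^ ((Multiplicative.toAdd a)⁻¹).val := by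
        rw [← pow_mul, ← Nat.mod_add_div ((Multiplicative.toAdd a).val *
          ((Multiplicative.toAdd a)⁻¹).val) p, pow_add, pow_mul v p, hVexp v hv, one_pow, mul_one,
          ← ZMod.val_mul, mul_inv_cancel₀ ha0, ZMod.val_one, pow_one]
      rw [h4]
      exact h3.pow_right _
    refine (Nat.card_eq_of_bijective (fun q => ⟨(q.1 : X) * (q.2 : X), ?mem⟩)
      ⟨fun q r e => ?inj, fun x => ?surj⟩).symm
    case mem =>
      rw [mem_centralizer_singleton_iff]
      have c1 : Commute (q.1 : X) (h : X) := (mem_centralizer_singleton_iff.1 q.1.2.2)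
      have c2 : Commute (q.1 : X) v := hVc _ q.1.2.1 _ hv
      have c3 : Commute (q.2 : X) (h : X) := hab _ q.2.2 _ h.2
      have c4 : Commute (q.2 : X) v := (hvH q.2).symm
      rw [hz, hπ]
      exact ((c2.pow_right _).mul_right c1).mul_left ((c4.pow_right _).mul_right c3)
    case inj =>
      have e' : (q.1 : X) * q.2 = r.1 * r.2 := congrArg Subtype.val e
      have := hGV.1 (a₁ := (⟨(q.1 : X), q.1.2.1⟩, ⟨(q.2 : X), q.2.2.1⟩))
        (a₂ := (⟨(r.1 : X), r.1.2.1⟩, ⟨(r.2 : X), r.2.2.1⟩)) e'
      simp only [Prod.mk.injEq, Subtype.mk.injEq] at this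
      exact Prod.ext (Subtype.ext this.1) (Subtype.ext this.2)
    case surj =>
      obtain ⟨x, hx⟩ := x
      obtain ⟨⟨⟨u, hu⟩, ⟨g, hg⟩⟩, rfl⟩ := hGV.2 x
      obtain ⟨c1, c2⟩ := hcomm _ (mem_centralizer_singleton_iff.1 hx)
      have hgv : Commute g v := by
        have c3 : Commute u v := hVc _ hu _ hv
        simpa using (c3.inv_left.mul_left c2)
      have hgH : g ∈ H := ⟨hg, mem_centralizer_singleton_iff.2 hgv⟩
      have hgh : Commute g (h : X) := hab _ hgH _ h.2
      have huh : Commute u (h : X) := by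
        simpa using c1.mul_left hgh.inv_left
      exact ⟨(⟨u, hu, mem_centralizer_singleton_iff.2 huh⟩, ⟨g, hgH⟩), rfl⟩
  -- each character contributes
  have hrow : ∀ χ : IrrCharacter X, ((p : ℝ) - 1) * (Fintype.card H : ℝ) ^ 2 ≤
      ∑ h : H, ∑ a : Multiplicative (ZMod p),
        if a = 1 then 0 else w h * ‖(χ : X → ℂ) (π (a, h))‖ ^ 2 := by
    intro χ
    have hne : ∃ a h, a ≠ (1 : Multiplicative (ZMod p)) ∧ (χ : X → ℂ) (π (a, h)) ≠ 0 := by
      by_contra hall
      push Not at hall
      obtain ⟨d, r, hr, hrc⟩ := χ.2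
      have hdeg : ¬ p ∣ d := fun hd => hidx (hd.trans (by
        have := hr
        have := Cfsg.Agent.S0169.result r V hVc
        rwa [Module.finrank_fin_fun] at this))
      obtain ⟨k, hk⟩ := classInner_isCharacter_eq_natCast
        (isCharacter_comp (π.comp (MonoidHom.inl (Multiplicative (ZMod p)) H))
          (IsIrr.isCharacter χ.2)) (isCharacter_one (G := Multiplicative (ZMod p)))
      rw [classInner, Finset.sum_eq_single (1 : Multiplicative (ZMod p)) (fun a _ ha => by
        simp [hall a 1 ha]) (fun h => absurd (Finset.mem_univ _) h)] at hk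
      simp only [MonoidHom.comp_apply, map_one, mul_one] at hk
      have hd1 : (χ : X → ℂ) 1 = d := by rw [← hrc]; simp
      rw [hd1, Nat.card_eq_fintype_card, Fintype.card_multiplicative, ZMod.card,
        inv_mul_eq_iff_eq_mul₀ (Nat.cast_ne_zero.2 hp.out.ne_zero)] at hk
      exact hdeg ⟨k, by exact_mod_cast hk⟩
    have := sum_off_one_ge hgood hw0 (φ := fun z => (χ : X → ℂ) (π z))
      (isGeneralized_of_isCharacter (isCharacter_comp π (IsIrr.isCharacter χ.2))) hne
    rw [Fintype.card_multiplicative, ZMod.card] at this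
    convert this
  -- the total
  have hcol : ∀ (a : Multiplicative (ZMod p)) (h : H), a ≠ 1 →
      ∑ χ : IrrCharacter X, w h * ‖(χ : X → ℂ) (π (a, h))‖ ^ 2 =
        (Nat.card (Additive V) : ℝ) * Fintype.card H := by
    intro a h ha
    have h1 := second_orthogonality (π (a, h)) (π (a, h))
    rw [if_pos (IsConj.refl _), hC a h ha] at h1
    simp only [Complex.mul_conj'] at h1
    rw [← Finset.mul_sum]
    have h2 : ∑ χ : IrrCharacter X, ‖(χ : X → ℂ) (π (a, h))‖ ^ 2 =
        ((fixNum (ρ h) * Fintype.card H : ℕ) : ℝ) := by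
      apply Complex.ofReal_injective
      push_cast
      rw [h1]
      push_cast
      rfl
    rw [h2, hw]
    push_cast
    have : (fixNum (ρ h) : ℝ) ≠ 0 := by exact_mod_cast (fixNum_pos _).ne'
    field_simp
  have hp1 : (1 : ℝ) < p := by exact_mod_cast hp.out.one_lt
  have htot : ∑ χ : IrrCharacter X, ∑ h : H, ∑ a : Multiplicative (ZMod p),
      (if a = 1 then 0 else w h * ‖(χ : X → ℂ) (π (a, h))‖ ^ 2) =
        ((p : ℝ) - 1) * (Fintype.card H : ℝ) ^ 2 * Nat.card (Additive V) := by
    rw [Finset.sum_comm]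
    have h3 : ∀ h : H, (∑ χ : IrrCharacter X, ∑ a : Multiplicative (ZMod p),
        if a = 1 then 0 else w h * ‖(χ : X → ℂ) (π (a, h))‖ ^ 2) =
          ((p : ℝ) - 1) * ((Nat.card (Additive V) : ℝ) * Fintype.card H) := by
      intro h
      rw [Finset.sum_comm, ← Finset.add_sum_erase _ _ (Finset.mem_univ (1 : Multiplicative (ZMod p)))]
      simp only [if_true, Finset.sum_const_zero, zero_add]
      rw [Finset.sum_congr rfl fun a ha => show (∑ χ : IrrCharacter X,
        if a = 1 then 0 else w h * ‖(χ : X → ℂ) (π (a, h))‖ ^ 2) = _ by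
          simp only [if_neg (Finset.ne_of_mem_erase ha)]
          exact hcol a h (Finset.ne_of_mem_erase ha)]
      rw [Finset.sum_const, Finset.card_erase_of_mem (Finset.mem_univ _), Finset.card_univ,
        Fintype.card_multiplicative, ZMod.card, nsmul_eq_mul, Nat.cast_sub hp.out.one_lt.le,
        Nat.cast_one]
    rw [Finset.sum_congr rfl fun h _ => h3 h, Finset.sum_const, Finset.card_univ, nsmul_eq_mul]
    ring
  have hle := Finset.card_nsmul_le_sum Finset.univ _ _ fun χ _ => hrow χ
  rw [htot, nsmul_eq_mul, Finset.card_univ, ← Nat.card_eq_fintype_card, card_irrCharacter,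
    mul_comm] at hle
  have hpos : (0 : ℝ) < ((p : ℝ) - 1) * (Fintype.card H : ℝ) ^ 2 :=
    mul_pos (sub_pos.2 hp1) (pow_pos (Nat.cast_pos.2 Fintype.card_pos) 2)
  have hfin := le_of_mul_le_mul_left hle hpos
  rw [Nat.card_congr (Additive.toMul (α := V))] at hfin
  exact_mod_cast hfin

end Cfsg.Agent.KGVAbelian
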